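import Mathlib
import Cfsg.Agent.ZJ.Two
import Cfsg.Agent.ZJ.Top
import Cfsg.Agent.Grp.ConjCount

/-! The centre `Z = ⟨z⟩ × W` has order eight: the sections `C(y)/⟨y⟩`. -/

set_option autoImplicit false

namespace Cfsg.Agent.ZJ

open Subgroup Cfsg.Agent.Class TT TT.UQ U6R

variable {G : Type*} [Group G]

theorem four_of {z a : G} {Z : Subgroup G} (zz : z * z = 1)
    (h : ∀ y ∈ Z, y = 1 ∨ y = z ∨ y = a ∨ y = a * z) : Four z Z := fun y hy y1 yz x hx => by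
  rcases h y hy with c | c | c | c
  exacts [absurd c y1, absurd c yz, c ▸ h x hx, by
    rw [c, mul_assoc, zz, mul_one]; have := h x hx; tauto]

theorem four_eq_mul {W : Subgroup G} (h4 : Nat.card W = 4) (h2 : ∀ y ∈ W, y * y = 1) {a b x : G}
    (ha : a ∈ W) (hb : b ∈ W) (hx : x ∈ W) (a1 : a ≠ 1) (b1 : b ≠ 1) (ab : b ≠ a) (x1 : x ≠ 1)
    (xa : x ≠ a) (xb : x ≠ b) : x = a * b := by
  have : Nontrivial W := ⟨⟨a, ha⟩, 1, mt Subtype.ext_iff.1 a1⟩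
  have : IsKleinFour W := ⟨h4, (Monoid.exponent_eq_prime_iff Nat.prime_two).2 fun y y1 =>
    orderOf_eq_two_of y1 (Subtype.ext (h2 y y.2))⟩
  exact congrArg Subtype.val (IsKleinFour.eq_mul_of_ne_all (x := (⟨a, ha⟩ : W)) (y := ⟨b, hb⟩)
    (z := ⟨x, hx⟩) (mt Subtype.ext_iff.1 a1) (mt Subtype.ext_iff.1 b1) (mt Subtype.ext_iff.1 ab.symm)
    (mt Subtype.ext_iff.1 x1) (mt Subtype.ext_iff.1 xa) (mt Subtype.ext_iff.1 xb))

theorem isPerfect_of {X : Type*} [Group X] {φ : G →* X} (hφ : Function.Surjective φ)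
    (hX : Group.IsPerfect X) (hk : φ.ker ≤ _root_.commutator G) : Group.IsPerfect G := by
  refine ⟨eq_top_iff.2 fun g _ => (comap_map_eq_self hk).le ?_⟩
  rw [_root_.commutator_def, map_commutator, map_top_of_surjective φ hφ, ← _root_.commutator_def,
    hX.commutator_eq_top]
  exact mem_top _

theorem fi22_perfect : Group.IsPerfect Spor.Fi22 := by
  have := Spor.FiC.M22.simple
  refine ⟨(inferInstance : (_root_.commutator Spor.Fi22).Normal).eq_bot_or_eq_top.resolve_left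
    fun e => ?_⟩
  obtain ⟨a, -, b, -, -, -, h, -⟩ := Spor.FiC.M22.aff
  exact h (commutatorElement_eq_one_iff_commute.1
    (e.le (commutator_mem_commutator (mem_top a) (mem_top b))))

/-- The setting `Z = ⟨z⟩ × W`, with `C(z)` inducing `S₃` on the four-group `W`. -/
structure EZ (z : G) (Z J W : Subgroup G) (π : G → V4) (ρ : G → P4) : Prop
    extends NS z Z J π ρ where
  hK : ∀ g, CZ Z g → ρ g ∈ K4
  wle : W ≤ Z
  zW : z ∉ W
  dec : ∀ y ∈ Z, y ∈ W ∨ y * z ∈ W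
  nW : ∀ g, Commute g z → ∀ w ∈ W, g * w * g⁻¹ ∈ W
  card : Nat.card W = 4
  swp : ∀ a ∈ W, a ≠ 1 → ∃ s, Commute s z ∧ Commute s a ∧ ¬ CZ Z s

namespace EZ

variable {z : G} {Z J W : Subgroup G} {π : G → V4} {ρ : G → P4} (h : EZ z Z J W π ρ)
include h

theorem eq_mul {a b x : G} (ha : a ∈ W) (hb : b ∈ W) (hx : x ∈ W) (a1 : a ≠ 1) (b1 : b ≠ 1)
    (ab : b ≠ a) (x1 : x ≠ 1) (xa : x ≠ a) (xb : x ≠ b) : x = a * b :=
  four_eq_mul h.card (fun y hy => h.zsq y (h.wle hy)) ha hb hx a1 b1 ab x1 xa xb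

theorem exists_ne (a : G) : ∃ b ∈ W, b ≠ 1 ∧ b ≠ a := by
  by_contra! c
  have := Set.ncard_le_ncard (show (W : Set G) ⊆ {1, a} from fun b hb => (em _).imp_right (c b hb))
  rw [← Nat.card_coe_set_eq, SetLike.coe_sort_coe, h.card] at this
  have := Set.ncard_insert_le 1 {a}
  rw [Set.ncard_singleton] at this
  omega

theorem ne_z {a : G} (ha : a ∈ W) : a ≠ z := fun e => h.zW (e ▸ ha)

theorem mz {a : G} (ha : a ∈ W) : a * z ∈ Z := mul_mem (h.wle ha) h.zmem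

theorem mzW {a : G} (ha : a ∈ W) : a * z ∉ W := mt (mul_mem_cancel_left ha).1 h.zW

theorem cases {y : G} (hy : y ∈ Z) : y ∈ W ∨ ∃ w ∈ W, y = w * z :=
  (h.dec y hy).imp_right fun c => ⟨_, c, by rw [mul_assoc, h.zz, mul_one]⟩

theorem cz_of {g : G} (hg : Commute g z) (hw : CZ W g) : CZ Z g := fun y hy =>
  (h.cases hy).elim (hw y) fun ⟨w, h1, e⟩ => e ▸ (hw w h1).mul_right hg

theorem conj_or {k a b : G} (hk : ∀ w ∈ W, k * w * k⁻¹ ∈ W) (ha : a ∈ W) (hb : b ∈ W) (a1 : a ≠ 1)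
    (b1 : b ≠ 1) (ab : b ≠ a) (e : Commute k a) : k * b * k⁻¹ = b ∨ k * b * k⁻¹ = a * b :=
  (em _).imp_right (h.eq_mul ha hb (hk b hb) a1 b1 ab (by simpa using b1) fun c =>
    ab ((conj_inj k).1 (c.trans (conj_eq_of_commute e).symm)))

theorem swap {s a b : G} (hs : Commute s z) (hn : ¬ CZ Z s) (ha : a ∈ W) (hb : b ∈ W) (a1 : a ≠ 1)
    (b1 : b ≠ 1) (ab : b ≠ a) (e : Commute s a) : s * b * s⁻¹ = a * b :=
  (h.conj_or (h.nW s hs) ha hb a1 b1 ab e).resolve_left fun c => hn (h.cz_of hs fun x hx => by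
    by_cases x1 : x = 1
    · exact x1 ▸ Commute.one_right s
    by_cases xa : x = a
    · exact xa ▸ e
    by_cases xb : x = b
    · exact xb ▸ commute_of_conj_eq c
    exact h.eq_mul ha hb hx a1 b1 ab x1 xa xb ▸ e.mul_right (commute_of_conj_eq c))

theorem conj {a b : G} (ha : a ∈ W) (hb : b ∈ W) (a1 : a ≠ 1) (b1 : b ≠ 1) :
    ∃ s, Commute s z ∧ s * a * s⁻¹ = b := by
  by_cases ab : b = a
  · exact ⟨1, Commute.one_left z, by simp [ab]⟩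
  have h1 : b * a ≠ 1 := fun c => ab (by rw [eq_inv_of_mul_eq_one_left c, h.zinv (h.wle ha)])
  obtain ⟨s, s1, s2, s3⟩ := h.swp _ (mul_mem hb ha) h1
  exact ⟨s, s1, by rw [h.swap s1 s3 (mul_mem hb ha) ha h1 a1 (by simpa using b1) s2, mul_assoc,
    h.zsq a (h.wle ha), mul_one]⟩

theorem four_map {C : Subgroup G} (hC : Z ≤ C) {X : Type*} [Group X] (φ : C →* X) {a : C}
    (ha : a.1 ∈ W) (a1 : a.1 ≠ 1) (e : φ a = 1 ∨ φ a = φ ⟨z, hC h.zmem⟩) :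
    Four (φ ⟨z, hC h.zmem⟩) ((Z.subgroupOf C).map φ) := by
  obtain ⟨b, hb, b1, ab⟩ := h.exists_ne a
  have zz : φ ⟨z, hC h.zmem⟩ * φ ⟨z, hC h.zmem⟩ = 1 := by
    rw [← map_mul, ← map_one φ]; exact congrArg φ (Subtype.ext h.zz)
  have h1 : ∀ x : C, x.1 ∈ W → φ x = 1 ∨ φ x = φ ⟨z, hC h.zmem⟩ ∨ φ x = φ ⟨b, hC (h.wle hb)⟩ ∨
      φ x = φ ⟨b, hC (h.wle hb)⟩ * φ ⟨z, hC h.zmem⟩ := fun x hx => by
    by_cases x1 : x = 1
    · exact .inl (x1 ▸ map_one φ)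
    by_cases xa : x = a
    · rw [xa]; tauto
    by_cases xb : x = ⟨b, hC (h.wle hb)⟩
    · rw [xb]; tauto
    rw [show x = ⟨b, hC (h.wle hb)⟩ * a from Subtype.ext (h.eq_mul hb ha hx b1 a1 ab.symm
      (fun c => x1 (Subtype.ext c)) (mt Subtype.ext xb) (mt Subtype.ext xa)), map_mul]
    rcases e with e | e <;> simp [e]
  refine four_of zz (a := φ ⟨b, hC (h.wle hb)⟩) ?_
  rintro _ ⟨y, hy, rfl⟩
  rcases h.cases hy with c | ⟨w, hw, c⟩
  · exact h1 y c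
  rw [show y = ⟨w, hC (h.wle hw)⟩ * ⟨z, hC h.zmem⟩ from Subtype.ext c, map_mul]
  rcases h1 ⟨w, hC (h.wle hw)⟩ hw with c | c | c | c <;> simp [c, zz, mul_assoc]

variable [Finite G]

theorem fix {g : G} {P : Subgroup G} (hP : IsPGroup 2 P)
    (hc : ∀ x ∈ P, ∀ w ∈ W, g⁻¹ * x * g⁻¹⁻¹ * w * (g⁻¹ * x * g⁻¹⁻¹)⁻¹ ∈ W) :
    ∃ a ∈ W, a ≠ 1 ∧ ∀ x ∈ P, Commute x (g * a * g⁻¹) := by
  have : Fact (Nat.Prime 2) := ⟨Nat.prime_two⟩
  obtain ⟨a, ⟨ha, a1⟩, h1⟩ := Grp.ConjCount.exists_mem_centralizer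
    (hP.map (MulAut.conj g⁻¹).toMonoidHom) ((W : Set G) \ {1}) (by
      rintro _ ⟨x, hx, rfl⟩ w ⟨hw, w1⟩
      exact ⟨hc x hx w hw, mt conj_eq_one_iff.1 w1⟩) (by
      rw [Nat.card_coe_set_eq, Set.ncard_sdiff_singleton_of_mem (one_mem W), ← Nat.card_coe_set_eq,
        SetLike.coe_sort_coe, h.card]
      decide)
  exact ⟨a, ha, a1, fun x hx => (comm_conj_inv.2 (show Commute _ a from h1 _ ⟨x, hx, rfl⟩).symm).symm⟩

theorem fi23 {a : G} (ha : a ∈ W) (a1 : a ≠ 1) (hn : ¬ Iso z (a * z)) :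
    Nonempty (G ≃* Spor.Fi23) := by
  have hd := h.mz ha
  have dz : a * z ≠ z := by simpa using a1
  have d2 := h.zsq _ hd
  have nc := h.nc.sub (h.le_cent hd h.zJ)
  have hC := h.le.trans (h.le_cent hd)
  obtain ⟨π', ρ', h1, -, h2⟩ := h.sec h.nc hd dz
  have hl := nc.lift' h.zmem (sec_ker hd)
  have h3 : ∀ g : centralizer {a * z}, CZ ((Z.subgroupOf _).map (sec (a * z))) (sec _ g) → CZ Z g :=
    fun g hg => by
      have e : Commute g.1 z := congrArg Subtype.val (hl g (hg _ h1.zmem))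
      refine h.cz_of e fun w hw => commute_of_conj_eq (mul_inv_eq_one.1 (((sec_eq_one d2 (x := g *
        ⟨w, hC (h.wle hw)⟩ * g⁻¹ * ⟨w, hC (h.wle hw)⟩⁻¹)).1 ?_).resolve_right fun c =>
          h.mzW ha (c ▸ mul_mem (h.nW g e w hw) (inv_mem hw))))
      rw [map_mul, map_mul, map_mul, map_inv, map_inv, conj_eq_of_commute
        (hg _ (mem_map_of_mem _ (show ⟨w, hC (h.wle hw)⟩ ∈ Z.subgroupOf _ from h.wle hw))), mul_inv_cancel]
  obtain ⟨s, s1, s2, s3⟩ := h.swp a ha a1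
  let s' : centralizer {a * z} := ⟨s, mem_centralizer_singleton_iff.2 (s2.mul_right s1)⟩
  obtain ⟨e⟩ := h1.case_two (fun g hg => by
      obtain ⟨g, rfl⟩ := sec_surj _ g
      exact h2 g (h3 g hg z h.zmem) ▸ h.hK g (h3 g hg))
    (h.four_map hC _ (a := ⟨a, hC (h.wle ha)⟩) ha a1 (.inr (mul_inv_eq_one.1 (by
      rw [← map_inv, ← map_mul]; exact (sec_eq_one d2).2 (.inr (congrArg _ (h.zinv h.zmem)))))))
    (nc.map (sec_surj _) (sec_ker hd)) (s := sec _ s') (Commute.map (Subtype.ext s1.eq) _)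
    (mt (h3 s') s3) ((ni_of_not_iso _ hn).map nc h.zmem (sec_ker hd))
  obtain ⟨b, hb, b1, ab⟩ := h.exists_ne a
  obtain ⟨h4, h5, h6⟩ := m23g_of_quot (orderOf_eq_two_of (h.mul_ne (h.ne_z ha)) d2)
    (isPerfect_of (φ := e.toMonoidHom.comp (sec _)) (e.surjective.comp (sec_surj _)) fi22_perfect
      fun x hx => by
        obtain ⟨u, hu, v, hv, c⟩ := h.exists_comm
        have h7 := mul_mem (commutator_mem_commutator (mem_top s') (mem_top ⟨b, hC (h.wle hb)⟩))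
          (commutator_mem_commutator (mem_top ⟨v, h.le_cent hd hv⟩⁻¹) (mem_top ⟨u, h.le_cent hd hu⟩))
        rcases (sec_eq_one d2).1 (e.injective (hx.trans e.map_one.symm)) with c' | c'
        · exact (Subtype.ext c' : x = 1) ▸ one_mem _
        · refine (Subtype.ext (c'.trans ?_) : x = _) ▸ h7
          change _ = s * b * s⁻¹ * b⁻¹ * (v⁻¹ * u * v⁻¹⁻¹ * u⁻¹)
          rw [h.swap s1 s3 ha hb a1 b1 ab s2, mul_inv_cancel_right, inv_inv, mul_assoc v⁻¹,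
            mul_assoc v⁻¹, c, inv_mul_cancel_left]) e (by
      obtain ⟨k, k1, k2⟩ := h.conj ha hb a1 b1
      refine ⟨k, ?_⟩
      rw [← conj_mul, k2, conj_eq_of_commute k1]
      exact ⟨hC (h.mz hb), by simpa using ab⟩)
  exact ⟨(h4.exists_equiv h5 h6).choose⟩

theorem sec_w {a : G} (ha : a ∈ W) (a1 : a ≠ 1) :
    ∃ π' ρ', NS (sec a ⟨z, h.le_cent (h.wle ha) h.zJ⟩) ((Z.subgroupOf _).map (sec a))
      ((J.subgroupOf _).map (sec a)) π' ρ' ∧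
      Four (sec a ⟨z, h.le_cent (h.wle ha) h.zJ⟩) ((Z.subgroupOf _).map (sec a)) ∧
      (∀ g, Commute g (sec a ⟨z, h.le_cent (h.wle ha) h.zJ⟩) → CZ ((Z.subgroupOf _).map (sec a)) g) ∧
      ∃ b ∈ (Z.subgroupOf _).map (sec a), b ≠ 1 ∧ b ≠ sec a ⟨z, h.le_cent (h.wle ha) h.zJ⟩ := by
  have hZ := h.wle ha
  have a2 := h.zsq a hZ
  have hC := h.le.trans (h.le_cent hZ)
  obtain ⟨π', ρ', h1, -, -⟩ := h.sec h.nc hZ (h.ne_z ha)
  have e : sec a ⟨a, hC hZ⟩ = 1 := (sec_eq_one a2).2 (.inr rfl)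
  have h4 := h.four_map hC (sec a) (a := ⟨a, hC hZ⟩) ha a1 (.inl e)
  obtain ⟨b, hb, b1, ab⟩ := h.exists_ne a
  have h2 : sec a ⟨b, hC (h.wle hb)⟩ ∈ (Z.subgroupOf _).map (sec a) := mem_map_of_mem _ (h.wle hb)
  have h3 : sec a ⟨b, hC (h.wle hb)⟩ ≠ 1 := fun c => ((sec_eq_one a2).1 c).elim b1 ab
  have h5 : sec a ⟨b, hC (h.wle hb)⟩ ≠ sec a ⟨z, hC h.zmem⟩ := fun c => by
    rw [← inv_mul_eq_one, ← map_inv, ← map_mul, sec_eq_one a2] at c
    exact h.mzW (inv_mem hb) (c.elim (fun c => (show b⁻¹ * z = 1 from c) ▸ one_mem W)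
      fun c => (show b⁻¹ * z = a from c) ▸ ha)
  refine ⟨π', ρ', h1, h4, fun g hg => h1.cz_of h4 h2 h3 h5 hg ?_, _, h2, h3, h5⟩
  obtain ⟨g, rfl⟩ := sec_surj a g
  have h6 : Commute g.1 z := congrArg Subtype.val
    ((h.nc.sub _).lift' h.zmem (sec_ker hZ) g hg)
  refine commute_of_conj_eq ?_
  rw [← map_inv, ← map_mul, ← map_mul]
  rcases h.conj_or (h.nW g h6) ha hb a1 b1 ab (mem_centralizer_singleton_iff.1 g.2) with c | c
  · exact congrArg _ (Subtype.ext c)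
  · rw [← one_mul (sec a ⟨b, _⟩), ← e, ← map_mul]
    exact congrArg _ (Subtype.ext c)

variable (hd : ∀ a ∈ W, a ≠ 1 → Iso z (a * z))
include hd

theorem wk : ∀ y ∈ Z, y ≠ 1 → y ≠ z → Wk z y J := fun y hy y1 yz => by
  rcases h.cases hy with ha | ⟨a, ha, rfl⟩
  swap
  · exact (hd a ha (by simpa using yz)).wk h.toJS
  obtain ⟨π', ρ', h1, h4, hI, b, hb, b1, bz⟩ := h.sec_w ha y1
  have nc := h.nc.sub (h.le_cent hy h.zJ)
  have nc' := nc.map (sec_surj _) (sec_ker hy)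
  intro g hg e
  refine congrArg Subtype.val (nc.lift h.zmem (sec_ker hy)
    (g := ⟨g, mem_centralizer_singleton_iff.2 hg⟩) ?_)
  rw [map_mul, map_mul, map_inv]
  refine h1.w2_I nc' hI (h1.wk h4 nc') hb b1 bz _ ?_
  rw [← map_inv, ← map_mul, ← map_mul]
  exact mem_map_of_mem _ e

theorem w2 (g : G) (hg : g * z * g⁻¹ ∈ J) : g * z * g⁻¹ = z := by
  obtain ⟨a, ha, a1, h1⟩ := h.fix (g := g) (P := J ⊓ centralizer {g * z * g⁻¹}) h.isPGroup.to_inf_left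
    fun x hx => h.nW _ (comm_conj_inv.1 (Commute.symm (mem_centralizer_singleton_iff.1 hx.2))).symm
  exact h.toJS.w2 h.nc (h.wk hd) (h.wle ha) a1 (h.ne_z ha) hg
    (h1 z ⟨h.zJ, mem_centralizer_singleton_iff.2 (h.commz hg).symm⟩).symm fun x hx e => by
      rw [conj_eq_of_commute (h1 x ⟨hx, mem_centralizer_singleton_iff.2 e⟩).symm, mul_inv_cancel]
      exact one_mem _

theorem norm_W {a : G} (ha : a ∈ W) (a1 : a ≠ 1) (hn : ¬ Iso z a) {k : G} (hk : Commute k a) :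
    ∀ w ∈ W, k * w * k⁻¹ ∈ W := by
  have hZ := h.wle ha
  have a2 := h.zsq a hZ
  obtain ⟨π', ρ', h1, h4, hI, b, hb, b1, bz⟩ := h.sec_w ha a1
  have nc := h.nc.sub (h.le_cent hZ h.zJ)
  obtain ⟨_, ⟨b, hb, rfl⟩, b1, bz, h2⟩ := h1.case_one h4 (nc.map (sec_surj _) (sec_ker hZ)) hI hb b1 bz
    ((ni_of_not_iso _ hn).map nc h.zmem (sec_ker hZ))
  have h3 : ∀ k, Commute k a → k * b * k⁻¹ = b ∨ k * b * k⁻¹ = a * b := fun k hk =>
    ((sec_eq_one a2 (x := ⟨k, mem_centralizer_singleton_iff.2 hk⟩ * b *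
      ⟨k, mem_centralizer_singleton_iff.2 hk⟩⁻¹ * b⁻¹)).1 (by
        rw [map_mul, map_mul, map_mul, map_inv, map_inv, conj_eq_of_commute (h2 _), mul_inv_cancel])).imp
      mul_inv_eq_one.1 mul_inv_eq_iff_eq_mul.1
  rcases h.cases (show b.1 ∈ Z from hb) with hW | ⟨w, hW, e⟩
  · have h5 : b.1 ≠ 1 ∧ b.1 ≠ a := not_or.1 (mt (sec_eq_one a2).2 b1)
    have h6 : k * b * k⁻¹ ∈ W := (h3 k hk).elim (·.symm ▸ hW) (·.symm ▸ mul_mem ha hW)
    intro x hx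
    by_cases x1 : x = 1
    · simp [x1]
    by_cases xa : x = a
    · rwa [xa, conj_eq_of_commute hk]
    by_cases xb : x = b
    · rwa [xb]
    rw [h.eq_mul ha hW hx a1 h5.1 h5.2 x1 xa xb, ← conj_mul, conj_eq_of_commute hk]
    exact mul_mem ha h6
  have h5 : w ≠ 1 ∧ w ≠ a := not_or.1 fun c => bz (mul_inv_eq_one.1 (by
    rw [← map_inv, ← map_mul, sec_eq_one a2]
    simpa [e] using c))
  refine absurd (fun g hg hc => ?_) hn
  rcases h3 g hg with c | c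
  · exact hd w hW h5.1 g (e ▸ commute_of_conj_eq c) hc
  obtain ⟨s, s1, s2, s3⟩ := h.swp a ha a1
  have e1 : g * s * z * (g * s)⁻¹ = g * z * g⁻¹ := by
    nth_rw 2 [← conj_eq_of_commute s1]; group
  rw [← e1] at hc ⊢
  refine hd w hW h5.1 _ (commute_of_conj_eq ?_) hc
  rw [show g * s * (w * z) * (g * s)⁻¹ = g * (s * w * s⁻¹ * (s * z * s⁻¹)) * g⁻¹ by group,
    h.swap s1 s3 ha hW a1 h5.1 h5.2 s2, conj_eq_of_commute s1, mul_assoc a, ← e, ← conj_mul, c,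
    conj_eq_of_commute hg, ← mul_assoc, a2, one_mul]

end EZ

end Cfsg.Agent.ZJ
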