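import Mathlib
import Cfsg.Agent.ZJ.Eight

/-! The centre `Z` of order eight: two commuting conjugates of `z`. -/

set_option autoImplicit false

namespace Cfsg.Agent.ZJ

open Subgroup Cfsg.Agent.Class TT TT.UQ U6R

variable {G : Type*} [Group G]

/-- The linear isometries fixing `x1` and `x2`. -/
structure AL (y : P4) : Prop where
  lin : IsLin y
  f1 : y x1 = x1
  f2 : y x2 = x2

theorem AL.cases {y : P4} (h : AL y) (e : y e0 2 = 0) :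
    y = 1 ∨ y = tv x1 ∨ y = tv x2 ∨ y = tv x1 * tv x2 := by
  obtain ⟨a, b, d, h1, h2, h3⟩ := h.lin.eq_of_fix h.f1 h.f2
  obtain rfl : b = 0 := by simpa [h3, e0, x1, x2] using e
  have h4 : ∀ a : GF4, a + a ^ 2 = 0 → a = 0 ∨ a = 1 := by decide
  simp only [Equiv.ext_iff, h3, tv_two_apply, tv_apply x1_mem, tv_apply x2_mem, h4_x1, h4_x2]
  rcases h4 a h1 with rfl | rfl <;> rcases h4 d h2 with rfl | rfl <;> simp

theorem AL.add {y y' : P4} (h : AL y) (h' : AL y') : (y * y') e0 2 = y e0 2 + y' e0 2 := by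
  obtain ⟨a, b, d, -, -, h3⟩ := h'.lin.eq_of_fix h'.f1 h'.f2
  rw [Equiv.Perm.mul_apply, h3, h.lin.add, h.lin.add, h.lin.smul, h.lin.smul, h.f1, h.f2]
  simp only [Pi.add_apply, show e0 2 = 0 from rfl, zero_add, add_assoc]

theorem AL.det {y : P4} {c : V4} (hc : c ∈ uS 4) (e : y = tv c) :
    (y e0 0 + 1) * (y e2 2 + 1) = y e0 2 * y e2 0 := by
  simp only [e, tv_apply hc, Pi.add_apply, Pi.smul_apply, smul_eq_mul, show e0 0 = 1 from rfl,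
    show e2 2 = 1 from rfl, show e0 2 = 0 from rfl, show e2 0 = 0 from rfl]
  generalize 𝐡 e0 c = a, 𝐡 e2 c = b, c 0 = d, c 2 = e
  revert a b d e; decide

theorem AL.not_tv {y : P4} (h : AL y) (e : y e0 2 ≠ 0) {c c' : V4} (hc : c ∈ uS 4) (hc' : c' ∈ uS 4)
    (e1 : y = tv c) : y * (tv x1 * tv x2) ≠ tv c' := fun e2 => by
  obtain ⟨a, b, d, h1, h2, h3⟩ := h.lin.eq_of_fix h.f1 h.f2
  have h4 := AL.det hc e1
  have h5 := AL.det hc' e2
  simp only [Equiv.Perm.mul_apply (f := y), tv_two_apply, h3] at e h4 h5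
  clear * - e h1 h2 h4 h5
  revert a b d; decide +kernel

theorem fix_of_comm_tv {y : P4} (hl : IsLin y) {c : V4} (hc : c ∈ uS 4) (e : Commute y (tv c))
    (h4 : y ^ 4 = 1) : y c = c := by
  obtain ⟨a, ha⟩ := (tv_eq_iff (hl.ga.mem hc) hc).1 (by rw [← hl.ga.conj_tv hc, conj_eq_of_commute e])
  have h1 := congrArg (· c) h4
  simp only [pow_succ, pow_zero, one_mul, Equiv.Perm.mul_apply, ha, hl.smul, smul_smul,
    Equiv.Perm.one_apply] at h1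
  rwa [show a * a * a * a = a by clear * -; revert a; decide, ← ha] at h1

theorem NS.tee_false {z g : G} {Z J : Subgroup G} {π : G → V4} {ρ : G → P4} (h : NS z Z J π ρ)
    (p : PR z Z J g) (wc : Wc Z J) (ct : CZ Z (g * z * g⁻¹)) (e : ρ (g * z * g⁻¹) = tv x1 * tv x2)
    (h3 : ∀ x ∈ J, ∀ x' ∈ J, Commute x (g * z * g⁻¹) → Commute x' (g * z * g⁻¹) → ∃ y ∈ Z,
      g⁻¹ * (y * x) * g⁻¹⁻¹ ∈ J ∨ g⁻¹ * (y * x') * g⁻¹⁻¹ ∈ J ∨ g⁻¹ * (y * (x * x')) * g⁻¹⁻¹ ∈ J) :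
    False := by
  have t2 := h.conj_sq h.zmem g
  obtain ⟨k, k1, k2, k3⟩ : ∃ k, CZ Z k ∧ Commute k (g * z * g⁻¹) ∧
      ∀ v, v + ρ k v + ρ k (ρ k v) = 0 := by
    obtain ⟨k, k1, k2, k3⟩ := h.exists_k ct t2 e
    exact ⟨k * k, k1.mul k1, k2.mul_left k2, by
      rw [h.rho_mul (k1 z h.zmem) (k1 z h.zmem), k3, dK_four]; exact dK_sum⟩
  have kz := k1 z h.zmem
  let D := J ⊓ J.comap (MulAut.conj g⁻¹).toMonoidHom
  have hD : ∀ {k}, Commute k z → Commute k (g * z * g⁻¹) → ∀ δ ∈ D, k * δ * k⁻¹ ∈ D :=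
    fun h1 h2 δ hδ => ⟨h.norm _ h1 δ hδ.1, by
      simpa [mul_assoc] using h.norm _ (comm_conj_inv.1 h2.symm).symm _ hδ.2⟩
  have hw := fun {δ} (hδ : δ ∈ D) => wc.eq_one h.le p.u1 h.zmem h.zmem hδ.1 hδ.2
  have hg := isConj_of g z
  have tz := p.comm
  generalize g * z * g⁻¹ = t at *
  have hm := fun {r} => h.comm_mem (x := r) tz
  have mm : ∀ {r s}, r ∈ J → s ∈ J → Eqv z (t * (r * s) * t⁻¹ * (r * s)⁻¹)
      (t * r * t⁻¹ * r⁻¹ * (t * s * t⁻¹ * s⁻¹)) := fun hr hs => by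
    rw [F24.comm_mul]
    exact (h.comm _ hr _ (hm hs)).imp (congrArg _) fun c => by rw [c, ← mul_assoc]
  have h1 : ∀ r ∈ J, ∃ y ∈ Z, y * (t * r * t⁻¹ * r⁻¹) ∈ D := fun r hr => by
    have c := h.comm_commute tz t2 hr (exists_two (by
      rw [← e, (h.ga t tz).add, h.rho_rho tz t2, add_comm])).2.2.1
    have hx := hm hr
    generalize t * r * t⁻¹ * r⁻¹ = x at c hx
    have hx' := h.norm k kz x hx
    obtain ⟨y, hy, c | c | c⟩ := h3 x hx _ hx' c ((k2.mul_left c).mul_left k2.inv_left)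
    · exact ⟨y, hy, mul_mem (h.le hy) hx, c⟩
    · have := hD kz.inv_left k2.inv_left _ ⟨mul_mem (h.le hy) hx', c⟩
      rw [← conj_mul, conj_eq_of_commute (k1.inv y hy)] at this
      exact ⟨y, hy, by simpa [mul_assoc] using this⟩
    have h2 := hD kz k2 _ ⟨mul_mem (h.le hy) (mul_mem hx hx'), c⟩
    have h4 := h.mem_of_pi hx h2.1 (by
      rw [h.act k kz _ (mul_mem (h.le hy) (mul_mem hx hx')), h.add y (h.le hy) _ (mul_mem hx hx'),
        h.pi_Z hy, zero_add, h.add x hx _ hx', h.act k kz x hx, (h.ga k kz).add]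
      exact v4_eq_of_add (by rw [← add_assoc, k3]))
    exact ⟨_, h4, by rwa [← (h.cent _ h4 x hx).eq, mul_inv_cancel_left]⟩
  have h2 : ∀ r ∈ J, ρ t (π r) + π r ≠ 0 → z * (t * r * t⁻¹ * r⁻¹) ∈ D := fun r hr e0 => by
    obtain ⟨y, hy, c⟩ := h1 r hr
    have h4 : ∀ {r}, y * (t * r * t⁻¹ * r⁻¹) ∈ D →
        y * (t * (k * r * k⁻¹) * t⁻¹ * (k * r * k⁻¹)⁻¹) ∈ D := fun c => by
      have := hD kz k2 _ c
      rwa [← conj_mul, conj_eq_of_commute (k1 y hy), ← conj_mul, ← conj_mul, ← conj_mul, ← conj_inv,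
        ← conj_inv, conj_eq_of_commute k2] at this
    have r1 := h.norm k kz r hr
    have r2 := h.norm k kz _ r1
    have h5 := mul_mem c (mul_mem (h4 c) (h4 (h4 c)))
    have h6 := mm hr (mul_mem r1 r2)
    have h7 := mm r1 r2
    rw [conj_eq_of_commute (ct _ ((h.ker _ (mul_mem hr (mul_mem r1 r2))).1 (by
      rw [h.add _ hr _ (mul_mem r1 r2), h.add _ r1 _ r2, h.act k kz _ r1, h.act k kz _ hr,
        ← add_assoc, k3]))), mul_inv_cancel] at h6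
    rw [(h.cent y hy _ (hm r1)).mul_mul_mul_comm, h.zsq y hy, one_mul, mul_assoc] at h5
    have h8 : t * r * t⁻¹ * r⁻¹ * (t * (k * r * k⁻¹) * t⁻¹ * (k * r * k⁻¹)⁻¹ *
        (t * (k * (k * r * k⁻¹) * k⁻¹) * t⁻¹ * (k * (k * r * k⁻¹) * k⁻¹)⁻¹)) ∈ zpowers z := by
      replace h6 := h6.elim (· ▸ one_mem (zpowers z))
        fun c => (mul_mem_cancel_right (mem_zpowers z)).1 (c ▸ one_mem _)
      rcases h7 with c | c <;> rw [c] at h6
      exacts [h6, (mul_mem_cancel_right (mem_zpowers z)).1 (by rwa [mul_assoc])]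
    have h9 := p.u2 _ (mul_mem hy (zpowers_le.2 h.zmem h8)) h5.2
    rcases (mem_zpowers_invol h.zz).1 (eq_inv_of_mul_eq_one_left h9 ▸ inv_mem h8 : y ∈ zpowers z)
      with rfl | rfl
    · rw [one_mul] at c
      rw [← h.pi_comm tz hr, hw c (mul_comm_eq t2 ▸ hg.trans (isConj_of r t))] at e0
      exact absurd (h.pi_Z (one_mem _)) e0
    · exact c
  obtain ⟨r, hr, e1⟩ := h.surj e0
  obtain ⟨s, hs, e2⟩ := h.surj e2
  have h4 := h2 r hr (by rw [e, e1, tv_two_apply]; decide)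
  have h5 := h2 s hs (by rw [e, e2, tv_two_apply]; decide)
  have h6 := h2 _ (mul_mem hr hs) (by rw [h.add r hr s hs, e, e1, e2, tv_two_apply]; decide)
  rw [F24.comm_mul, conj_eq_of_commute ((h.comm' r hr _ (hm hs)).2 (by
    rw [h.pi_comm tz hs, e, e1, e2, tv_two_apply, bf, h4_eq_hd, h4_eq_hd]; decide))] at h6
  have h7 := mul_mem h6 (inv_mem (mul_mem h4 h5))
  rw [(h.commz (hm hr)).mul_mul_mul_comm, h.zz, one_mul, mul_inv_cancel_right] at h7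
  exact h.z1 (p.u2 z h.zmem h7.2)

namespace EZ

variable {z : G} {Z J W : Subgroup G} {π : G → V4} {ρ : G → P4} (h : EZ z Z J W π ρ) [Finite G]
  (hd : ∀ a ∈ W, a ≠ 1 → Iso z (a * z))
include h hd

theorem wc : Wc Z J := h.wc' h.nc (h.wk hd) (h.w2 hd)

variable {g : G} (p : PR z Z J g)
include p

theorem lin_of_pr : IsLin (ρ (g * z * g⁻¹)) := by
  obtain ⟨a, ha, a1, h1⟩ := h.fix (g := g) (P := J ⊓ centralizer {g * z * g⁻¹}) h.isPGroup.to_inf_left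
    fun x hx => h.nW _ (comm_conj_inv.1 (Commute.symm (mem_centralizer_singleton_iff.1 hx.2))).symm
  have h2 := (h1 z ⟨h.zJ, mem_centralizer_singleton_iff.2 p.comm.symm⟩).symm
  have h3 : Commute (g * (a * z) * g⁻¹) z := by rw [← conj_mul]; exact h2.mul_left p.comm
  refine (h.lin_or_semi p (h.mz ha) (h.mul_ne (h.ne_z ha)) (hd a ha a1) h3).elim And.left
    fun ⟨e, e'⟩ => ?_
  obtain ⟨⟨r, hr, h4⟩, -⟩ := h.semi_conj' p (h.mz ha) (by simpa using a1) (hd a ha a1) h3 e e'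
  have hn : ¬ CZ Z (g * z * g⁻¹) := fun c => (lin_of_mem_closure (h.hK _ c)).not_semi e
  have h5 : ∀ w ∈ W, Commute w (g * z * g⁻¹) → IsConj z (g * z * g⁻¹ * w) := fun w hw c => by
    refine (isConj_of g z).trans ?_
    by_cases w1 : w = 1
    · rw [w1, mul_one]
    obtain ⟨b, hb, b1, bw⟩ := h.exists_ne w
    refine isConj_iff.2 ⟨b⁻¹, ?_⟩
    calc _ = b⁻¹ * (g * z * g⁻¹ * b * (g * z * g⁻¹)⁻¹) * (g * z * g⁻¹) := by group
      _ = _ := by rw [h.swap p.comm hn hw hb w1 b1 bw c.symm, (h.zcomm (h.wle hw) (h.wle hb)).eq,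
        inv_mul_cancel_left, c.eq]
  refine (h.sigma_false p (h.d1 p (h.wc hd) e fun y hy c => ⟨z, h.zmem, ?_⟩) e (h.wle ha) a1 h2 ?_).elim
  · rcases h.cases hy with hw | ⟨w, hw, rfl⟩
    · exact h5 y hw c
    refine (h5 w hw (by simpa using c.mul_left p.comm.symm.inv_left)).trans (isConj_iff.2 ⟨r, ?_⟩)
    rw [← conj_mul, h4, conj_eq_of_commute (h.cent w (h.wle hw) r hr), mul_assoc,
      (h.zcomm h.zmem (h.wle hw)).eq]
  · rw [show g * a * g⁻¹ = g * (a * z) * g⁻¹ * (g * z * g⁻¹) by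
      rw [conj_mul, mul_assoc a, h.zz, mul_one], h.rho_mul h3 p.comm]
    exact e'.mul e

theorem cz_of_pr : CZ Z (g * z * g⁻¹) := h.cz_of_mem p.comm
  ((h.lin_of_pr hd p).mem_of_sq (h.rho_sq p.comm (h.conj_sq h.zmem g)))

theorem comm_U {y : G} (hy : y ∈ Z) : Commute (g * y * g⁻¹) z :=
  comm_conj_inv.2 (h.cz_of_pr hd p.symm y hy).symm

theorem tv_d {a : G} (ha : a ∈ W) (a1 : a ≠ 1) : ∃ c ∈ uS 4, ρ (g * (a * z) * g⁻¹) = tv c :=
  have h1 := h.comm_U hd p (h.mz ha)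
  h.tv_of_iso p (h.mz ha) (h.mul_ne (h.ne_z ha)) (by simpa using a1) (hd a ha a1) h1
    ((h.lin_or_semi p (h.mz ha) (h.mul_ne (h.ne_z ha)) (hd a ha a1) h1).resolve_right
      fun c => (h.lin_of_pr hd p).not_semi c.1).2

theorem coord : (∀ c ∈ uS 4, ρ (g * z * g⁻¹) ≠ tv c) ∧ ∀ x ∈ J, ∀ x' ∈ J, Commute (g * x * g⁻¹) z →
    Commute (g * x' * g⁻¹) z → ∃ y ∈ Z, g * (y * x) * g⁻¹ ∈ J ∨ g * (y * x') * g⁻¹ ∈ J ∨
      g * (y * (x * x')) * g⁻¹ ∈ J := by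
  obtain ⟨a, ha, a1, -⟩ := h.exists_ne 1
  obtain ⟨b, hb, b1, ab⟩ := h.exists_ne a
  have ab1 : a * b ≠ 1 := fun c => ab (by rw [eq_inv_of_mul_eq_one_right c, h.zinv (h.wle ha)])
  have hab := mul_mem ha hb
  obtain ⟨c, hc, e1⟩ := h.tv_d hd p ha a1
  obtain ⟨d, hd', e2⟩ := h.tv_d hd p hb b1
  obtain ⟨c', hc', e3⟩ := h.tv_d hd p hab ab1
  have hU := fun {y} => h.comm_U hd p (y := y)
  have e4 : a * z * (b * z) = a * b := by
    rw [(h.zcomm h.zmem (h.wle hb)).mul_mul_mul_comm, h.zz, mul_one]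
  obtain ⟨k, hk, e1, e2⟩ := h.exists_coord (hU (h.mz ha)) (h.conj_sq (h.mz ha) g) (hU (h.mz hb))
    (fun x hx e => h.toJS.comm_U p (h.mz hb) (hU (h.mz hb)) hx
      (h.cent_of_iso (hd a ha a1) (h.mz ha) p.comm hx e))
    (fun c => ab1 (p.u1 _ (h.wle hab) (by rwa [conj_mul, e4] at c))) hc hd' e1 e2
  have h' := h.comp hk
  have h0 : ∀ g, k⁻¹ * ρ g * k = (fun g => k⁻¹ * ρ g * k) g := fun _ => rfl
  rw [h0] at e1 e2
  generalize hρ : (fun g => k⁻¹ * ρ g * k) = ρ' at h' e1 e2 h0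
  have h1 : ∀ x ∈ J, Commute (g * x * g⁻¹) z → AL (ρ' (g * x * g⁻¹)) := fun x hx c => by
    have hl : IsLin (ρ' (g * x * g⁻¹)) := h0 _ ▸ (hk.inv.mul (lin_of_mem_closure (h.hK _ fun y hy =>
      comm_conj_inv.2 (h.toJS.comm_U p.symm hy (h.comm_U hd p.symm hy) hx
        (comm_conj_inv.1 c))))).mul hk
    have h4 : ρ' (g * x * g⁻¹) ^ 4 = 1 := by
      rw [← h'.rho_pow c, conj_pow, h.pow_four hx, mul_one, mul_inv_cancel, h'.rho_one]
    have h5 : ∀ y ∈ Z, Commute (ρ' (g * x * g⁻¹)) (ρ' (g * y * g⁻¹)) := fun y hy => by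
      rw [Commute, SemiconjBy, ← h'.rho_mul c (hU hy), ← h'.rho_mul (hU hy) c, conj_mul, conj_mul,
        (h.cent y hy x hx).eq]
    exact ⟨hl, fix_of_comm_tv hl x1_mem (e1 ▸ h5 _ (h.mz ha)) h4,
      fix_of_comm_tv hl x2_mem (e2 ▸ h5 _ (h.mz hb)) h4⟩
  have h2 : ∀ x, Commute (g * x * g⁻¹) z → ∀ y ∈ Z, ρ' (g * x * g⁻¹) = ρ' (g * y * g⁻¹) →
      g * (y * x) * g⁻¹ ∈ J := fun x c y hy e => by
    have := h'.mem_of_rho_eq (hU hy) c e.symm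
    rwa [conj_inv, h.zinv hy, conj_mul] at this
  have h3 : ∀ x ∈ J, Commute (g * x * g⁻¹) z → ρ' (g * x * g⁻¹) e0 2 = 0 → ∃ y ∈ Z,
      (y = 1 ∨ y = a * z ∨ y = b * z ∨ y = a * b) ∧ g * (y * x) * g⁻¹ ∈ J := fun x hx c e => by
    rcases (h1 x hx c).cases e with e | e | e | e
    exacts [⟨1, one_mem _, .inl rfl, h2 x c 1 (one_mem _) (by simp [e, h'.rho_one])⟩,
      ⟨_, h.mz ha, by simp, h2 x c _ (h.mz ha) (e.trans e1.symm)⟩,
      ⟨_, h.mz hb, by simp, h2 x c _ (h.mz hb) (e.trans e2.symm)⟩,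
      ⟨_, h.wle hab, by simp, h2 x c _ (h.wle hab) (by
        rw [e, ← e4, ← conj_mul, h'.rho_mul (hU (h.mz ha)) (hU (h.mz hb)), e1, e2])⟩]
  have hz := h.mz hab
  have h4 : ρ' (g * (a * b * z) * g⁻¹) e0 2 ≠ 0 := fun e => by
    obtain ⟨y, hy, c, e⟩ := h3 _ (h.le hz) (hU hz) e
    rw [eq_inv_of_mul_eq_one_left (p.u1 _ (mul_mem hy hz) e), h.zinv hz] at c
    rcases c with c | c | c | c
    exacts [h.mul_ne (h.ne_z hab) c, b1 (by simpa using c), a1 (by simpa using c), h.z1 (by simpa using c)]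
  have h5 : ∀ {x x'}, x ∈ J → x' ∈ J → Commute (g * x * g⁻¹) z → Commute (g * x' * g⁻¹) z →
      ρ' (g * (x * x') * g⁻¹) e0 2 = ρ' (g * x * g⁻¹) e0 2 + ρ' (g * x' * g⁻¹) e0 2 :=
    fun hx hx' c c' => by rw [← conj_mul, h'.rho_mul c c', (h1 _ hx c).add (h1 _ hx' c')]
  refine ⟨fun c hc e => (h1 _ (h.le hz) (hU hz)).not_tv h4 (hk.inv.ga.mem hc') (hk.inv.ga.mem hc) ?_ ?_,
    fun x hx x' hx' c c' => ?_⟩
  · rw [← h0, e3, ← hk.inv.ga.conj_tv hc', inv_inv]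
  · rw [← e1, ← e2, ← h'.rho_mul (hU (h.mz ha)) (hU (h.mz hb)), conj_mul, e4,
      ← h'.rho_mul (hU hz) (hU (h.wle hab)), conj_mul, mul_assoc (a * b), (h.zcomm h.zmem (h.wle hab)).eq,
      ← mul_assoc (a * b), h.zsq _ (h.wle hab), one_mul, ← h0, e, ← hk.inv.ga.conj_tv hc, inv_inv]
  have h6 : ∀ x ∈ J, Commute (g * x * g⁻¹) z → ρ' (g * x * g⁻¹) e0 2 = 0 ∨
      ρ' (g * (a * b * z) * g⁻¹) e0 2 + ρ' (g * x * g⁻¹) e0 2 = 0 → ∃ y ∈ Z, g * (y * x) * g⁻¹ ∈ J :=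
    fun x hx c e => e.elim (fun e => let ⟨y, hy, _, e⟩ := h3 x hx c e; ⟨y, hy, e⟩) fun e => by
      obtain ⟨y, hy, -, e⟩ := h3 _ (mul_mem (h.le hz) hx) (by rw [← conj_mul]; exact (hU hz).mul_left c)
        ((h5 (h.le hz) hx (hU hz) c).trans e)
      exact ⟨_, mul_mem hy hz, by rwa [mul_assoc y]⟩
  have h7 : ∀ u v β : GF4, β ≠ 0 → (u = 0 ∨ β + u = 0) ∨ (v = 0 ∨ β + v = 0) ∨
      (u + v = 0 ∨ β + (u + v) = 0) := by decide
  rcases h7 _ _ _ h4 with e | e | e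
  · exact (h6 x hx c e).imp fun _ e => ⟨e.1, .inl e.2⟩
  · exact (h6 x' hx' c' e).imp fun _ e => ⟨e.1, .inr (.inl e.2)⟩
  · exact (h6 _ (mul_mem hx hx') (by rw [← conj_mul]; exact c.mul_left c') (h5 hx hx' c c' ▸ e)).imp
      fun _ e => ⟨e.1, .inr (.inr e.2)⟩

theorem not_pr : False := by
  rcases (h.lin_of_pr hd p).invol (h.rho_sq p.comm (h.conj_sq h.zmem g)) fun c =>
    h.z1 (p.u1 z h.zmem (h.mem_of_rho p.comm c)) with ⟨c, hc, e⟩ | ⟨u, hu, w, hw, h1, h2, e⟩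
  · exact (h.coord hd p).1 c hc e
  obtain ⟨k, hk, rfl, rfl⟩ := exists_lin_two hu hw h1 h2
  exact (h.comp hk).tee_false p (h.wc hd) (h.cz_of_pr hd p) (by
      simp only [e, ← hk.ga.conj_tv x1_mem, ← hk.ga.conj_tv x2_mem]; group)
    fun x hx x' hx' c c' => (h.coord hd p.symm).2 x hx x' hx' (comm_conj_inv.1 c.symm).symm
      (comm_conj_inv.1 c'.symm).symm

end EZ

end Cfsg.Agent.ZJ
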