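import Mathlib
import Cfsg.Agent.ZJ.Tee

/-! The centre `Z` of order eight: the four-group `W` is normal. -/

set_option autoImplicit false

namespace Cfsg.Agent.ZJ

open Subgroup Cfsg.Agent.Class TT TT.UQ U6R

variable {G : Type*} [Group G] [Finite G]

theorem dih {s r : G} (s2 : s * s = 1) (r2 : r * r = 1) (hn : ¬ IsConj s r) :
    ∃ i, i ≠ 1 ∧ Commute i s ∧ Commute i r ∧ (IsConj r (i * r) ∨ IsConj r (i * s)) := by
  have key : ∀ {a x : G}, x * a * x⁻¹ = a⁻¹ → ∀ k : ℕ, a ^ k * x * (a ^ k)⁻¹ = a ^ (2 * k) * x :=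
    fun {a x} h k => by
      have : x * (a ^ k)⁻¹ * x⁻¹ = a ^ k := by rw [← conj_inv, ← conj_pow, h, inv_pow, inv_inv]
      rw [two_mul, pow_add, mul_assoc, mul_assoc, mul_right_inj, ← mul_inv_eq_iff_eq_mul, this]
  have s1 := inv_eq_of_mul_eq_one_right s2
  have r1 := inv_eq_of_mul_eq_one_right r2
  have h1 := key (show s * (s * r) * s⁻¹ = (s * r)⁻¹ by rw [← mul_assoc, s2, one_mul, mul_inv_rev, r1])
  have h2 := key (show r * (s * r) * r⁻¹ = (s * r)⁻¹ by
    rw [mul_inv_rev, s1, r1, mul_assoc, mul_assoc, r2, mul_one])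
  have e3 : s = s * r * r := by rw [mul_assoc, r2, mul_one]
  generalize s * r = a at *
  obtain ⟨m, hm | hm⟩ := Nat.even_or_odd' (orderOf a)
  · have h3 : a ^ (2 * m) = 1 := by rw [← hm, pow_orderOf_eq_one]
    have h4 := orderOf_pos a
    refine ⟨a ^ m, pow_ne_one_of_lt_orderOf (by omega) (by omega),
      commute_of_conj_eq (by rw [h1, h3, one_mul]), commute_of_conj_eq (by rw [h2, h3, one_mul]), ?_⟩
    obtain ⟨k, rfl | rfl⟩ := Nat.even_or_odd' m
    exacts [.inl (h2 k ▸ isConj_of _ r), .inr (isConj_iff.2 ⟨a ^ (k + 1), by rw [h2, e3]; group⟩)]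
  · refine absurd (isConj_iff.2 ⟨a ^ m, ?_⟩) hn
    rw [h1, e3, ← mul_assoc, ← pow_succ, ← hm, pow_orderOf_eq_one, one_mul]

theorem JS.oddCore_le {z b : G} {Z J M : Subgroup G} (h : JS z Z J) (hb : b ∈ Z)
    (h1 : ∀ k, Commute k b → k ∈ M) (h2 : ∀ k, Commute k (b * z) → k ∈ M) : oddCore G ≤ M := by
  have hN : (oddCore G).Normal := inferInstance
  have hO : Odd (Nat.card (oddCore G)) :=
    Nat.not_even_iff_odd.1 (mt even_iff_two_dvd.1 (Grp.not_dvd_card_pPrimeCore 2 G))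
  have h3 := inverts_of_fixed_trivial h.zz (fun k hk => hN.conj_mem k hk z) fun k hk e =>
    eq_one_of_mem_odd_of_isPGroup hO h.isPGroup hk (h.le (h.mem_of_cent fun x hx =>
      (commute_of_conj_eq (mul_inv_eq_one.1 (eq_one_of_mem_odd_of_isPGroup hO h.isPGroup (by
        rw [mul_assoc, mul_assoc]
        exact mul_mem hk (by simpa [mul_assoc] using hN.conj_mem _ (inv_mem hk) x))
          (h.comm_mem e.symm hx)))).symm))
  intro x hx
  have hy := hN.conj_mem x hx b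
  have e : b * (b * x * b⁻¹) * b⁻¹ = x := by
    rw [← mul_assoc, ← mul_assoc, h.zsq b hb, mul_assoc, ← mul_inv_rev, h.zsq b hb]; simp
  obtain ⟨y, e'⟩ : ∃ y, b * x * b⁻¹ = y := ⟨_, rfl⟩
  rw [e'] at hy e
  have c : Commute x y := by
    have := h3 _ (mul_mem hx hy)
    rw [← conj_mul, h3 x hx, h3 y hy, ← mul_inv_rev, inv_inj] at this
    exact this.symm
  have h4 := mul_mem (h1 (x * y) (commute_of_conj_eq (by rw [← conj_mul, e, e', c.eq])).symm)
    (h2 (x * y⁻¹) (commute_of_conj_eq (by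
      rw [show b * z * (x * y⁻¹) * (b * z)⁻¹ = b * (z * (x * y⁻¹) * z⁻¹) * b⁻¹ by group,
        h3 _ (mul_mem hx (inv_mem hy)), mul_inv_rev, inv_inv, ← conj_mul, e, ← conj_inv, e'])).symm)
  rw [c.symm.mul_mul_mul_comm, mul_inv_cancel, mul_one, ← pow_two] at h4
  exact zpowers_le.2 h4 (mem_zpowers_pow_iff.2 ((Nat.coprime_two_left.2 hO).coprime_dvd_right
    (orderOf_dvd_natCard (oddCore G) hx)))

namespace EZ

variable {z : G} {Z J W : Subgroup G} {π : G → V4} {ρ : G → P4} (h : EZ z Z J W π ρ)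
  (hd : ∀ a ∈ W, a ≠ 1 → Iso z (a * z))
include h hd

theorem exists_not_iso {g : G} (hc : Commute (g * z * g⁻¹) z) (hne : g * z * g⁻¹ ≠ z) :
    ∃ y ∈ W, y ≠ 1 ∧ ¬ Iso z y ∧ ∃ x ∈ Z, g * x * g⁻¹ = y ∨ g * y * g⁻¹ = x := by
  obtain ⟨y, hy, y1, yz, h1, h2⟩ := (h.pr_or h.nc (h.wk hd) (h.w2 hd) hc hne).resolve_left (h.not_pr hd)
  exact ⟨y, (h.cases hy).resolve_right fun ⟨w, hw, e⟩ =>
    h1 (e ▸ hd w hw fun c => yz (by rw [e, c, one_mul])), y1, h1, h2⟩

theorem normal (hn : NI z) : W.Normal := by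
  have : Fact (Nat.Prime 2) := ⟨Nat.prime_two⟩
  have hH : ∀ {k}, Commute k z → k ∈ normalizer (W : Set G) := fun hk =>
    mem_normalizer_fintype (h.nW _ hk)
  have hM : ∀ {a k}, a ∈ W → a ≠ 1 → Commute k a → k ∈ normalizer (W : Set G) := fun ha a1 hk => by
    obtain ⟨_, t1, t2, t3⟩ := hn
    obtain ⟨g, rfl⟩ := isConj_iff.1 t1
    obtain ⟨y, hy, y1, h1, -⟩ := h.exists_not_iso hd t2 t3
    obtain ⟨s, s1, rfl⟩ := h.conj ha hy a1 y1
    exact mem_normalizer_fintype (h.norm_W hd ha a1 (mt (·.conj s1) h1) hk)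
  have hT : ∀ g, Commute (g * z * g⁻¹) z → g ∈ normalizer (W : Set G) := fun g hc => by
    by_cases hne : g * z * g⁻¹ = z
    · exact hH (commute_of_conj_eq hne)
    obtain ⟨y, hy, y1, -, x, hx, e | e⟩ := h.exists_not_iso hd hc hne
    · obtain ⟨k, k1, k2⟩ := h.fuse h.nc hx (e ▸ h.wle hy)
      exact (mul_mem_cancel_left (hM hy y1 (e ▸ k1))).1 (hH k2)
    obtain ⟨k, k1, k2⟩ := h.fuse h.nc (h.wle hy) (e ▸ hx)
    refine (mul_mem_cancel_left (hM ?_ (mt conj_eq_one_iff.1 y1) k1)).1 (hH k2)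
    rw [← conj_eq_of_commute k1]
    simpa only [mul_assoc, mul_inv_rev] using h.nW _ k2 y hy
  have h1 : ∀ {a x}, a ∈ W → a ≠ 1 → IsConj a x → Commute a x → x ∈ W := fun ha a1 hc e => by
    obtain ⟨g, rfl⟩ := isConj_iff.1 hc
    exact h.eq_of_comm h.nc (h.wle ha) (fun g hg => (mem_normalizer_iff.1 (hT g hg) _).1 ha)
      (fun k hk w => (mem_normalizer_iff.1 (hM ha a1 hk) w).1) e
  have h2 : ∀ {a x}, a ∈ W → a ≠ 1 → IsConj a x → x ∈ normalizer (W : Set G) → x ∈ W :=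
    fun {a x} ha a1 hc hx => by
      have x2 : x * x = 1 := by
        obtain ⟨g, rfl⟩ := isConj_iff.1 hc
        exact h.conj_sq (h.wle ha) g
      obtain ⟨b, hb, b1, e⟩ := h.fix (g := 1) (P := zpowers x) (fun y => ⟨1, Subtype.ext (by
        rcases (mem_zpowers_invol x2).1 y.2 with c | c <;> simp [c, pow_two, x2])⟩) fun y hy w hw => by
          simpa using (mem_normalizer_iff.1 (zpowers_le.2 hx hy) w).1 hw
      obtain ⟨s, -, rfl⟩ := h.conj ha hb a1 b1
      exact h1 hb b1 ((isConj_of s a).symm.trans hc) (by simpa using (e x (mem_zpowers x)).symm)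
  have h3 : ∀ {a k}, a ∈ W → a ≠ 1 → Commute k (a * z) → k ∈ normalizer (W : Set G) :=
    fun {a k} ha a1 hk => by
      have hC := h.le_cent (h.mz ha)
      obtain ⟨b, hb, b1, ab⟩ := h.exists_ne a
      have h4 := h.toJS.sub (hC h.zJ) fun x hx => ⟨1, one_mem _, by simpa using hC hx⟩
      have h5 := h4.oddCore_le (M := (normalizer (W : Set G)).subgroupOf (centralizer {a * z}))
        (show ⟨b, hC (h.le (h.wle hb))⟩ ∈ Z.subgroupOf (centralizer {a * z}) from h.wle hb)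
        (fun k hk => hM (k := k) hb b1 (congrArg Subtype.val hk)) fun k hk => hM (k := k)
          (mul_mem ha hb) (fun c => ab (by rw [eq_inv_of_mul_eq_one_right c, h.zinv (h.wle ha)])) (by
            have := Commute.mul_right (mem_centralizer_singleton_iff.1 k.2)
              (show Commute k.1 (b * z) from congrArg Subtype.val hk)
            rwa [(h.zcomm h.zmem (h.wle hb)).mul_mul_mul_comm, h.zz, mul_one] at this)
      refine ((top_of_not_ni h4.order fun ⟨t, t1, t2, t3⟩ => ?_).ge.trans (sup_le (fun k hk =>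
        hH (k := k) (congrArg Subtype.val (mem_centralizer_singleton_iff.1 hk))) h5))
        (mem_top (⟨k, mem_centralizer_singleton_iff.2 hk⟩ : centralizer {a * z}))
      obtain ⟨g, rfl⟩ := isConj_iff.1 t1
      exact t3 (Subtype.ext (hd a ha a1 g (mem_centralizer_singleton_iff.1 g.2)
        (congrArg Subtype.val t2)))
  refine ⟨fun a ha g => ?_⟩
  by_cases a1 : a = 1
  · simp [a1]
  have hc := isConj_of g a
  obtain ⟨i, i1, c1, c2, c3 | c3⟩ := dih h.zz (h.conj_sq (h.wle ha) g) fun c =>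
    h.ne_z ha (h.nc a (h.wle ha) (c.trans hc.symm))
  · have h4 := h1 (x := g⁻¹ * i * g⁻¹⁻¹ * a) ha a1 (hc.trans (c3.trans (isConj_iff.2 ⟨g⁻¹, by group⟩)))
      ((comm_conj_inv.1 c2.symm).mul_right (Commute.refl a))
    rw [mul_mem_cancel_right ha] at h4
    have h5 : g⁻¹ * i * g⁻¹⁻¹ ≠ 1 := mt conj_eq_one_iff.1 i1
    exact h2 ha a1 hc (hM (h2 h4 h5 (isConj_of g⁻¹ i).symm (hH c1)) i1 c2.symm)
  · have h4 := h2 ha a1 (hc.trans c3) (hH (c1.mul_left (Commute.refl z)))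
    refine h2 ha a1 hc (h3 h4 (fun c => a1 ?_) (by rw [mul_assoc i, h.zz, mul_one]; exact c2.symm))
    rw [c] at c3
    exact isConj_one_left.1 (hc.trans c3)

end EZ

theorem EZ.main {z : G} {Z J W : Subgroup G} {π : G → V4} {ρ : G → P4} (h : EZ z Z J W π ρ)
    (hn : NI z) : Nonempty (G ≃* Spor.Fi23) ∨ W.Normal :=
  (em (∀ a ∈ W, a ≠ 1 → Iso z (a * z))).symm.imp (fun c => by
    push Not at c
    exact let ⟨a, ha, a1, e⟩ := c; h.fi23 ha a1 e) fun hd => h.normal hd hn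

end Cfsg.Agent.ZJ
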