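import Mathlib
import Cfsg.Agent.ZJ.Alpha
import Cfsg.Agent.ZJ.Lin
import Cfsg.Agent.Grp.FourOdd
import Cfsg.Agent.S0815

/-! Construction of the setting with centre of order eight. -/

set_option autoImplicit false

namespace Cfsg.Agent.ZJ

open Subgroup Cfsg.Agent.Class TT TT.UQ U6R Cfsg.Agent.Class.Orth

variable {G : Type*} [Group G]

theorem exists_aut [Finite G] {z : G} {Q : Subgroup G} {π : G → V4} {ρ : G → P4} (h : U4S z Q π ρ)
    (hn : NI z) (hc : Nat.card (centralizer ({z} : Set G)) = 79626240) :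
    Nonempty (G ≃* MulAut (PSU 6 GF4 2)) := by
  have : Fact (Nat.Prime 2) := ⟨Nat.prime_two⟩
  obtain ⟨e⟩ := h.nonempty_equiv_closure hn
  have hN : (closure (conjugatesOf z)).Normal := by
    convert normalClosure_normal (s := {z})
    simp [normalClosure, Group.conjugatesOfSet]
  have h1 := Grp.FourOdd.ncard_conj ⊤ z
  rw [show {t | ∃ k ∈ (⊤ : Subgroup G), k * z * k⁻¹ = t} = conjugatesOf z from
    Set.ext fun t => by simp [conjugatesOf], ncard_U6 (h.isU hn), top_inf_eq, hc, card_top] at h1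
  have h2 := S0815.result (F := GF4) 2 1 le_rfl (q := 2) rfl card_GF4 6 (by norm_num) (by norm_num)
  have := Finite.of_equiv _ e.toEquiv
  refine ⟨(MulEquiv.ofBijective (MulAut.conjNormal (H := closure (conjugatesOf z)))
    ((Nat.bijective_iff_injective_and_card _).2 ⟨(injective_iff_map_eq_one _).2 fun g hg =>
      h.eq_one_of_commute hn fun d hd => commute_of_conj_eq (congrArg
        (fun φ : MulAut _ => (φ ⟨d, subset_closure hd⟩).1) hg), ?_⟩)).trans (MulAut.congr e)⟩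
  rw [Nat.card_congr (MulAut.congr e).toEquiv, h2, card_psu6, ← h1]
  rfl

/-- The norm map of an element of order three. -/
def N3 (c y : G) : G := y * (c * y * c⁻¹) * (c * (c * y * c⁻¹) * c⁻¹)

section

variable {z c : G} {Z J : Subgroup G} (zsq : ∀ y ∈ Z, y * y = 1) (c3 : c ^ 3 = 1)
  (hn : ∀ y ∈ Z, c * y * c⁻¹ ∈ Z)

include c3 in
theorem conj3 (y : G) : c * (c * (c * y * c⁻¹) * c⁻¹) * c⁻¹ = y := by
  rw [show c * (c * (c * y * c⁻¹) * c⁻¹) * c⁻¹ = c ^ 3 * y * (c ^ 3)⁻¹ by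
    rw [pow_three]; group, c3]; simp

include zsq hn

theorem N3_mul {x y : G} (hx : x ∈ Z) (hy : y ∈ Z) : N3 c (x * y) = N3 c x * N3 c y := by
  rw [N3, ← conj_mul, ← conj_mul, (show Commute y _ from comm_of_sq_eq_one zsq hy (hn x hx)).mul_mul_mul_comm,
    (show Commute (y * _) _ from comm_of_sq_eq_one zsq (mul_mem hy (hn y hy))
      (hn _ (hn x hx))).mul_mul_mul_comm]; rfl

include c3

theorem N3_conj {y : G} (hy : y ∈ Z) : N3 c (c * y * c⁻¹) = N3 c y := by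
  rw [N3, conj3 c3, comm_of_sq_eq_one zsq (mul_mem (hn y hy) (hn _ (hn y hy))) hy, ← mul_assoc]; rfl

theorem N3_pow {y : G} (hy : y ∈ Z) (n : ℕ) :
    c ^ n * y * (c ^ n)⁻¹ ∈ Z ∧ N3 c (c ^ n * y * (c ^ n)⁻¹) = N3 c y := by
  induction n with
  | zero => simpa using hy
  | succ n ih =>
    rw [show c ^ (n + 1) * y * (c ^ (n + 1))⁻¹ = c * (c ^ n * y * (c ^ n)⁻¹) * c⁻¹ by group]
    exact ⟨hn _ ih.1, (N3_conj zsq c3 hn ih.1).trans ih.2⟩

omit c3 hn in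
theorem eq_of_N3 {y : G} (hy : y ∈ Z) (e : N3 c y = 1) :
    y = c * y * c⁻¹ * (c * (c * y * c⁻¹) * c⁻¹) := by
  rw [N3, mul_assoc y] at e
  rw [eq_inv_of_mul_eq_one_right e, inv_eq_of_mul_self (zsq y hy)]

theorem exists_W (hz : z ∈ Z) (z1 : z ≠ 1) (hc : Commute c z)
    (fix : ∀ y ∈ Z, Commute c y → y = 1 ∨ y = z) : ∃ W ≤ Z, z ∉ W ∧ (∀ y ∈ Z, y ∈ W ∨ y * z ∈ W) ∧
      ∀ g, (∀ y ∈ Z, g * y * g⁻¹ ∈ Z) → (∃ n : ℕ, CZ Z ((c ^ n)⁻¹ * (g * c * g⁻¹))) →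
        ∀ w ∈ W, g * w * g⁻¹ ∈ W := by
  have h1 : N3 c z = z := by simp only [N3, conj_eq_of_commute hc, zsq z hz, one_mul]
  let W : Subgroup G :=
    { carrier := {y | y ∈ Z ∧ N3 c y = 1}
      one_mem' := ⟨one_mem _, by simp [N3]⟩
      mul_mem' := fun ha hb => ⟨mul_mem ha.1 hb.1, by rw [N3_mul zsq hn ha.1 hb.1, ha.2, hb.2, one_mul]⟩
      inv_mem' := fun ha => by rwa [inv_eq_of_mul_self (zsq _ ha.1)] }
  refine ⟨W, fun _ h => h.1, fun h => z1 (h1.symm.trans h.2), fun y hy => ?_, fun g hg ⟨n, h2⟩ w hw => ?_⟩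
  · refine (fix _ (mul_mem (mul_mem hy (hn y hy)) (hn _ (hn y hy))) (commute_of_conj_eq ?_)).imp
      (fun e => ⟨hy, e⟩) fun e => ⟨mul_mem hy hz, by
        rw [N3_mul zsq hn hy hz, h1, show N3 c y = z from e, zsq z hz]⟩
    rw [← conj_mul, ← conj_mul]
    exact N3_conj zsq c3 hn hy
  have h3 := hg _ (hn w hw.1)
  have h4 := conj_eq_of_commute (h2 _ h3)
  refine ⟨hg w hw.1, ?_⟩
  rw [eq_of_N3 zsq hw.1 hw.2, ← conj_mul, show g * (c * (c * w * c⁻¹) * c⁻¹) * g⁻¹ =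
    c ^ n * (g * (c * w * c⁻¹) * g⁻¹) * (c ^ n)⁻¹ by rw [← h4]; group,
    N3_mul zsq hn h3 (N3_pow zsq c3 hn h3 n).1, (N3_pow zsq c3 hn h3 n).2]
  exact zsq _ (mul_mem (mul_mem h3 (hn _ h3)) (hn _ (hn _ h3)))

theorem mem_of_fix (hz : z ∈ Z) (hZ : Z ≤ J) (fix : ∀ y ∈ J, Commute c y → y = 1 ∨ y = z) {x : G}
    (hx : x ∈ J) (h : c * x * c⁻¹ * x⁻¹ ∈ Z) : x ∈ Z := by
  obtain ⟨y, hy, e⟩ : ∃ y ∈ Z, c * x * c⁻¹ = y * x := ⟨_, h, (inv_mul_cancel_right _ _).symm⟩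
  have h1 := conj3 c3 x
  rw [e, ← conj_mul (a := y), e, ← conj_mul (a := c * y * c⁻¹), ← conj_mul (a := y), e, ← mul_assoc _ y,
    ← mul_assoc _ (_ * y), mul_eq_right, comm_of_sq_eq_one zsq (hn y hy) hy, ← mul_assoc _ y] at h1
  refine (mul_mem_cancel_left (hn y hy)).1 ((fix _ (mul_mem (hZ (hn y hy)) hx)
    (commute_of_conj_eq ?_)).elim (· ▸ one_mem Z) (· ▸ hz))
  rw [← conj_mul, e, ← mul_assoc _ y, eq_inv_of_mul_eq_one_left h1, inv_eq_of_mul_self (zsq _ (hn y hy))]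

end

end Cfsg.Agent.ZJ
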